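import Mathlib
import Groth.Prelude.Def_IntMult

/-!
# Plumbing for `IntMult.stalkIdeal`
-/

set_option autoImplicit false
universe u

namespace Groth.Agent.H17.IM

open AlgebraicGeometry CategoryTheory TopologicalSpace Opposite

variable {X : Scheme.{u}}

/-- the stalk ideal can be computed on any single affine open neighbourhood -/
theorem stalkIdeal_eq_map (I : X.IdealSheafData) (x : X) (U : X.affineOpens) (hx : x ∈ U.1) :
    IntMult.stalkIdeal I x = (I.ideal U).map (X.presheaf.germ U.1 x hx).hom := by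
  refine le_antisymm ?_ ?_
  · unfold IntMult.stalkIdeal
    refine iSup_le fun U' => iSup_le fun hx' => ?_
    -- a common smaller affine open
    obtain ⟨_, ⟨W, hW, rfl⟩, hxW, hWle⟩ :=
      X.isBasis_affineOpens.exists_subset_of_mem_open
        (show x ∈ ((U'.1 ⊓ U.1 : X.Opens) : Set X) from ⟨hx', hx⟩) (U'.1 ⊓ U.1).2
    let W' : X.affineOpens := ⟨W, hW⟩
    have hWU' : W' ≤ U' := fun y hy => (hWle hy).1
    have hWU : W' ≤ U := fun y hy => (hWle hy).2
    have hg1 : X.presheaf.map (homOfLE hWU').op ≫ X.presheaf.germ W x hxW =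
        X.presheaf.germ U'.1 x hx' := X.presheaf.germ_res (homOfLE hWU') x hxW
    have hg2 : X.presheaf.map (homOfLE hWU).op ≫ X.presheaf.germ W x hxW =
        X.presheaf.germ U.1 x hx := X.presheaf.germ_res (homOfLE hWU) x hxW
    have e1 : (I.ideal U').map (X.presheaf.germ U'.1 x hx').hom =
        (I.ideal W').map (X.presheaf.germ W x hxW).hom := by
      rw [← I.map_ideal hWU', Ideal.map_map, ← CommRingCat.hom_comp, hg1]
    have e2 : (I.ideal U).map (X.presheaf.germ U.1 x hx).hom =
        (I.ideal W').map (X.presheaf.germ W x hxW).hom := by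
      rw [← I.map_ideal hWU, Ideal.map_map, ← CommRingCat.hom_comp, hg2]
    rw [e1, e2]
  · unfold IntMult.stalkIdeal
    exact le_iSup₂ (f := fun (U : X.affineOpens) (hx : x ∈ (U : X.Opens)) =>
      (I.ideal U).map (X.presheaf.germ U x hx).hom) U hx

/-- for an integral subscheme, the ideal on an affine open meeting the support is prime -/
theorem isPrime_ideal_of_isIntegral (I : X.IdealSheafData) [IsIntegral I.subscheme]
    (U : X.affineOpens) (x : X) (hxU : x ∈ U.1) (hxI : x ∈ I.support) :
    (I.ideal U).IsPrime := by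
  rw [← I.ker_subschemeι_app U]
  haveI hne : Nonempty ↥(I.subschemeι ⁻¹ᵁ U.1) := by
    have hx' : x ∈ Set.range I.subschemeι := by
      rw [I.range_subschemeι]; exact hxI
    obtain ⟨y, hy⟩ := hx'
    exact ⟨⟨y, by show I.subschemeι y ∈ U.1; rw [hy]; exact hxU⟩⟩
  haveI : IsDomain Γ(I.subscheme, I.subschemeι ⁻¹ᵁ U.1) :=
    @IsIntegral.component_integral _ _ (I.subschemeι ⁻¹ᵁ U.1) hne
  exact RingHom.ker_isPrime _

/-- the ideal on an affine open is contained in the prime of a point of the support -/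
theorem ideal_le_primeIdealOf (I : X.IdealSheafData) (U : X.affineOpens) (x : X) (hxU : x ∈ U.1)
    (hxI : x ∈ I.support) : I.ideal U ≤ (U.2.primeIdealOf ⟨x, hxU⟩).asIdeal := by
  intro a ha
  have hz := (I.mem_support_iff_of_mem hxU).1 hxI
  rw [Scheme.mem_zeroLocus_iff] at hz
  have hnot : x ∉ X.basicOpen a := hz a ha
  by_contra hmem
  apply hnot
  rw [Scheme.mem_basicOpen _ _ _ hxU]
  letI := X.presheaf.algebra_section_stalk ⟨x, hxU⟩
  haveI := U.2.isLocalization_stalk ⟨x, hxU⟩
  exact IsLocalization.map_units (M := (U.2.primeIdealOf ⟨x, hxU⟩).asIdeal.primeCompl)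
    (X.presheaf.stalk x) ⟨a, hmem⟩

section loc

/-- the stalk ideal of an integral subscheme at a point of its support is prime -/
theorem isPrime_stalkIdeal (I : X.IdealSheafData) (x : X) [IsIntegral I.subscheme]
    (hxI : x ∈ I.support) :
    (IntMult.stalkIdeal I x).IsPrime := by
  obtain ⟨_, ⟨U, hU, rfl⟩, hxU, -⟩ :=
    X.isBasis_affineOpens.exists_subset_of_mem_open (Set.mem_univ x) isOpen_univ
  rw [stalkIdeal_eq_map I x ⟨U, hU⟩ hxU]
  letI := X.presheaf.algebra_section_stalk ⟨x, hxU⟩
  haveI := hU.isLocalization_stalk ⟨x, hxU⟩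
  haveI hP := isPrime_ideal_of_isIntegral I ⟨U, hU⟩ x hxU hxI
  have hle := ideal_le_primeIdealOf I ⟨U, hU⟩ x hxU hxI
  refine IsLocalization.isPrime_of_isPrime_disjoint
    (hU.primeIdealOf ⟨x, hxU⟩).asIdeal.primeCompl (X.presheaf.stalk x) _ hP ?_
  rw [Set.disjoint_left]
  intro a ha ha'
  exact ha (hle ha')

/-- an inclusion of stalk ideals, the larger one of an integral subscheme, spreads out to an
affine neighbourhood -/
theorem ideal_le_of_stalkIdeal_le (I : X.IdealSheafData) (U : X.affineOpens) (x : X)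
    (hxU : x ∈ U.1) (J : X.IdealSheafData) [IsIntegral I.subscheme]
    (hxI : x ∈ I.support) (h : IntMult.stalkIdeal J x ≤ IntMult.stalkIdeal I x) :
    J.ideal U ≤ I.ideal U := by
  rw [stalkIdeal_eq_map I x U hxU, stalkIdeal_eq_map J x U hxU] at h
  letI := X.presheaf.algebra_section_stalk ⟨x, hxU⟩
  haveI := U.2.isLocalization_stalk ⟨x, hxU⟩
  haveI hP := isPrime_ideal_of_isIntegral I U x hxU hxI
  have hle := ideal_le_primeIdealOf I U x hxU hxI
  have hdis : Disjoint ((U.2.primeIdealOf ⟨x, hxU⟩).asIdeal.primeCompl : Set Γ(X, U.1))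
      (I.ideal U : Set Γ(X, U.1)) := by
    rw [Set.disjoint_left]
    intro a ha ha'
    exact ha (hle ha')
  have hcomap := IsLocalization.comap_map_of_isPrime_disjoint
    (U.2.primeIdealOf ⟨x, hxU⟩).asIdeal.primeCompl (X.presheaf.stalk x) hP hdis
  intro a ha
  rw [← hcomap, Ideal.mem_comap]
  exact h (Ideal.mem_map_of_mem _ ha)

end loc

/-- an inclusion of ideals on an affine open gives the reverse inclusion of supports there -/
theorem support_inter_subset (I J : X.IdealSheafData) (U : X.affineOpens)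
    (h : J.ideal U ≤ I.ideal U) :
    (I.support : Set X) ∩ U.1 ⊆ (J.support : Set X) ∩ U.1 := by
  rw [I.coe_support_inter, J.coe_support_inter]
  rintro y ⟨hy, hyU⟩
  refine ⟨?_, hyU⟩
  rw [Scheme.mem_zeroLocus_iff] at hy ⊢
  exact fun a ha => hy a (h ha)

/-- the support of an integral closed subscheme is irreducible -/
theorem isIrreducible_support (I : X.IdealSheafData) [IsIntegral I.subscheme] :
    IsIrreducible (I.support : Set X) := by
  rw [← I.range_subschemeι, ← Set.image_univ]
  exact (IrreducibleSpace.isIrreducible_univ _).image _ I.subschemeι.continuous.continuousOn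

/-- if `J_x ≤ I_x` with `I` integral then `supp I ⊆ supp J` -/
theorem support_subset_of_stalkIdeal_le (I J : X.IdealSheafData) [IsIntegral I.subscheme]
    (x : X) (hxI : x ∈ I.support) (h : IntMult.stalkIdeal J x ≤ IntMult.stalkIdeal I x) :
    (I.support : Set X) ⊆ (J.support : Set X) := by
  obtain ⟨_, ⟨U, hU, rfl⟩, hxU, -⟩ :=
    X.isBasis_affineOpens.exists_subset_of_mem_open (Set.mem_univ x) isOpen_univ
  have h1 := ideal_le_of_stalkIdeal_le I ⟨U, hU⟩ x hxU J hxI h
  have h2 := support_inter_subset I J ⟨U, hU⟩ h1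
  have hirr := isIrreducible_support I
  have hdense : (I.support : Set X) ⊆ closure ((I.support : Set X) ∩ U) := by
    intro y hy
    rw [mem_closure_iff]
    intro O hO hyO
    have := hirr.isPreirreducible O U hO U.2 ⟨y, hy, hyO⟩ ⟨x, hxI, hxU⟩
    obtain ⟨z, hz, hzO, hzU⟩ := this
    exact ⟨z, hzO, hz, hzU⟩
  refine hdense.trans ?_
  refine closure_minimal (h2.trans Set.inter_subset_left) J.support.isClosed

/-- the stalk of the zero ideal sheaf -/
theorem stalkIdeal_bot (x : X) : IntMult.stalkIdeal (⊥ : X.IdealSheafData) x = ⊥ := by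
  obtain ⟨_, ⟨U, hU, rfl⟩, hxU, -⟩ :=
    X.isBasis_affineOpens.exists_subset_of_mem_open (Set.mem_univ x) isOpen_univ
  rw [stalkIdeal_eq_map ⊥ x ⟨U, hU⟩ hxU]
  simp

end Groth.Agent.H17.IM
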