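import Mathlib
import Groth.Agent.H54.AffineDim2
import Groth.Agent.H54.SchemeDim2
import Groth.Agent.H17.IM.Stalk

/-!
# Dimension of `O_{X,ξ}/I` through an affine chart
-/

set_option autoImplicit false
universe u

namespace Groth.Agent.H17.IM

open AlgebraicGeometry CategoryTheory TopologicalSpace

/-- For a finitely generated algebra `A` over a field, primes `P ≤ p` and `S = A_p`:
`dim S/PS + dim A/p = dim A/P`. -/
theorem ringKrullDim_localization_quotient_add (k : Type u) [Field k] (A : Type u) [CommRing A]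
    [Algebra k A] [Algebra.FiniteType k A]
    (S : Type u) [CommRing S] [Algebra A S] (p : Ideal A) [p.IsPrime] [IsLocalization.AtPrime S p]
    (P : Ideal A) [P.IsPrime] (hPp : P ≤ p) :
    ringKrullDim (S ⧸ P.map (algebraMap A S)) + ringKrullDim (A ⧸ p) = ringKrullDim (A ⧸ P) := by
  have hp' : (p.map (Ideal.Quotient.mk P)).IsPrime :=
    Ideal.map_isPrime_of_surjective Ideal.Quotient.mk_surjective (by rw [Ideal.mk_ker]; exact hPp)
  have h1 := Groth.Agent.H54.height_add_ringKrullDim_quotient k (A ⧸ P)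
    ⟨p.map (Ideal.Quotient.mk P), hp'⟩
  have e : ((A ⧸ P) ⧸ p.map (Ideal.Quotient.mk P)) ≃+* (A ⧸ p) :=
    DoubleQuot.quotQuotEquivQuotOfLE hPp
  have hsub : Algebra.algebraMapSubmonoid (A ⧸ P) p.primeCompl =
      (p.map (Ideal.Quotient.mk P)).primeCompl := by
    ext b
    constructor
    · rintro ⟨a, ha, rfl⟩
      intro hmem
      rw [Ideal.Quotient.algebraMap_eq] at hmem
      exact ha ((Ideal.mem_quotient_iff_mem hPp).1 hmem)
    · intro hb
      obtain ⟨a, rfl⟩ := Ideal.Quotient.mk_surjective b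
      refine ⟨a, ?_, rfl⟩
      show a ∉ p
      intro ha
      exact hb ((Ideal.mem_quotient_iff_mem hPp).2 ha)
  haveI : IsLocalization.AtPrime (S ⧸ P.map (algebraMap A S)) (p.map (Ideal.Quotient.mk P)) := by
    unfold IsLocalization.AtPrime
    rw [← hsub]
    infer_instance
  rw [IsLocalization.AtPrime.ringKrullDim_eq_height (p.map (Ideal.Quotient.mk P))
    (S ⧸ P.map (algebraMap A S)), ← ringKrullDim_eq_of_ringEquiv e]
  exact h1


variable {X : Scheme.{u}}

/-- a point `j Q` of an affine open lies in the support of `I` iff `I(U) ≤ Q` -/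
theorem fromSpec_mem_support_iff (I : X.IdealSheafData) (U : X.Opens) (hU : IsAffineOpen U)
    (Q : PrimeSpectrum Γ(X, U)) : hU.fromSpec Q ∈ I.support ↔ I.ideal ⟨U, hU⟩ ≤ Q.asIdeal := by
  have hQU : hU.fromSpec Q ∈ (U : Set X) := by
    rw [← hU.range_fromSpec]
    exact Set.mem_range_self Q
  have key : hU.fromSpec Q ∈ (I.support : Set X) ∩ U ↔
      Q ∈ PrimeSpectrum.zeroLocus (I.ideal ⟨U, hU⟩ : Set Γ(X, U)) := by
    rw [I.coe_support_inter ⟨U, hU⟩, ← hU.fromSpec_image_zeroLocus]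
    exact hU.fromSpec.isOpenEmbedding.injective.mem_set_image
  constructor
  · intro h
    exact (PrimeSpectrum.mem_zeroLocus _ _).1 (key.1 ⟨h, hQU⟩)
  · intro h
    exact (key.2 ((PrimeSpectrum.mem_zeroLocus _ _).2 h)).1

/-- the dimension of a closed subset is bounded by the transcendence degrees of its points -/
theorem topologicalKrullDim_closed_le_of_forall_tdeg_le {k : Type u} [Field k]
    (s : X ⟶ Spec (CommRingCat.of k)) [LocallyOfFiniteType s] (Z : Set X) (hZ : IsClosed Z) (N : ℕ)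
    (h : ∀ x ∈ Z, Groth.Agent.H54.tdeg s x ≤ N) : topologicalKrullDim ↥Z ≤ N := by
  classical
  let g : TopologicalSpace.IrreducibleCloseds X → ℕ :=
    fun T => Groth.Agent.H54.tdeg s T.isIrreducible.genericPoint
  have hgen : ∀ T : TopologicalSpace.IrreducibleCloseds X,
      closure ({T.isIrreducible.genericPoint} : Set X) = (T : Set X) :=
    fun T => T.isIrreducible.closure_genericPoint T.isClosed
  have hg : StrictMono g := by
    intro T T' hlt
    have hsub : (T : Set X) ⊆ (T' : Set X) := hlt.le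
    have hmem : T.isIrreducible.genericPoint ∈ (T' : Set X) :=
      hsub ((hgen T).subset (subset_closure rfl))
    have hsp : T'.isIrreducible.genericPoint ⤳ T.isIrreducible.genericPoint :=
      specializes_iff_mem_closure.mpr ((hgen T').symm.subset hmem)
    have hne : T'.isIrreducible.genericPoint ≠ T.isIrreducible.genericPoint := by
      intro heq
      apply hlt.ne
      apply TopologicalSpace.IrreducibleCloseds.ext
      exact (hgen T).symm.trans
        ((congrArg (fun y => closure ({y} : Set X)) heq.symm).trans (hgen T'))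
    exact Groth.Agent.H54.tdeg_lt_of_specializes s hsp hne
  have hind : Topology.IsInducing (Subtype.val : Z → X) := Topology.IsInducing.subtypeVal
  unfold topologicalKrullDim
  rw [Order.krullDim]
  apply iSup_le
  intro p
  let p' : LTSeries (IrreducibleCloseds X) :=
    p.map (IrreducibleCloseds.map Subtype.val hind.continuous)
      (IrreducibleCloseds.map_strictMono_of_isInducing hind)
  have hsub : (p'.last : Set X) ⊆ Z := by
    show ((IrreducibleCloseds.map Subtype.val hind.continuous p.last : IrreducibleCloseds X) :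
      Set X) ⊆ Z
    rw [IrreducibleCloseds.coe_map]
    refine closure_minimal ?_ hZ
    rintro _ ⟨y, -, rfl⟩
    exact y.2
  have h1 := LTSeries.head_add_length_le_nat (p'.map g hg)
  have h2 : (p'.map g hg).last ≤ N :=
    h _ (hsub ((hgen p'.last).subset (subset_closure rfl)))
  have h3 : p.length ≤ N := by
    have : (p'.map g hg).length = p.length := rfl
    omega
  exact_mod_cast h3

/-- chart data on an affine open -/
theorem exists_chart_data {k : Type u} [Field k] (s : X ⟶ Spec (CommRingCat.of k))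
    [LocallyOfFiniteType s] (U : X.Opens) (hU : IsAffineOpen U) :
    ∃ ψ : CommRingCat.of k ⟶ Γ(X, U), Spec.map ψ = hU.fromSpec ≫ s ∧ ψ.hom.FiniteType := by
  refine ⟨Spec.preimage (hU.fromSpec ≫ s), Spec.map_preimage _, ?_⟩
  have h : LocallyOfFiniteType (Spec.map (Spec.preimage (hU.fromSpec ≫ s))) := by
    rw [Spec.map_preimage]; infer_instance
  exact (HasRingHomProperty.Spec_iff (P := @LocallyOfFiniteType)).mp h

/-- `dim V ≤ dim A/I_V(U)` for an integral closed subscheme meeting the affine open `U` -/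
theorem topologicalKrullDim_support_le {k : Type u} [Field k] (s : X ⟶ Spec (CommRingCat.of k))
    [LocallyOfFiniteType s] (I : X.IdealSheafData) [IsIntegral I.subscheme] (U : X.Opens) (hU : IsAffineOpen U)
    (ξ : X) (hξU : ξ ∈ U) (hξI : ξ ∈ I.support) :
    topologicalKrullDim ↥(I.support : Set X) ≤ ringKrullDim (Γ(X, U) ⧸ I.ideal ⟨U, hU⟩) := by
  obtain ⟨ψ, hψ, hft⟩ := exists_chart_data s U hU
  haveI hP := isPrime_ideal_of_isIntegral I ⟨U, hU⟩ ξ hξU hξI
  let Qp : PrimeSpectrum Γ(X, U) := ⟨I.ideal ⟨U, hU⟩, hP⟩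
  have hchart := Groth.Agent.H54.ringKrullDim_quotient_chart s hU.fromSpec ψ hψ hft Qp
  have hchart' : ringKrullDim (Γ(X, U) ⧸ I.ideal ⟨U, hU⟩) =
      (Groth.Agent.H54.tdeg s (hU.fromSpec Qp) : WithBot ℕ∞) := hchart
  rw [hchart']
  apply topologicalKrullDim_closed_le_of_forall_tdeg_le s _ I.support.isClosed
  intro x hx
  apply Groth.Agent.H54.tdeg_le_of_specializes
  -- the generic point of the support is `j Qp`
  have hirr := isIrreducible_support I
  have hcl : closure ({hirr.genericPoint} : Set X) = (I.support : Set X) :=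
    hirr.closure_genericPoint I.support.isClosed
  have hηI : hirr.genericPoint ∈ (I.support : Set X) := hcl.subset (subset_closure rfl)
  have hηξ : hirr.genericPoint ⤳ ξ := specializes_iff_mem_closure.mpr (hcl.symm.subset hξI)
  have hηU : hirr.genericPoint ∈ (U : Set X) := hηξ.mem_open U.isOpen hξU
  rw [← hU.range_fromSpec] at hηU
  obtain ⟨Q, hQ⟩ := hηU
  have h1 : I.ideal ⟨U, hU⟩ ≤ Q.asIdeal := (fromSpec_mem_support_iff I U hU Q).1 (hQ ▸ hηI)
  have h2 : hU.fromSpec Qp ∈ (I.support : Set X) := (fromSpec_mem_support_iff I U hU Qp).2 le_rfl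
  have h3 : hirr.genericPoint ⤳ hU.fromSpec Qp :=
    specializes_iff_mem_closure.mpr (hcl.symm.subset h2)
  rw [← hQ] at h3
  have h4 : Q ⤳ Qp := hU.fromSpec.isOpenEmbedding.isInducing.specializes_iff.mp h3
  have h5 : Q.asIdeal ≤ I.ideal ⟨U, hU⟩ := (PrimeSpectrum.le_iff_specializes Q Qp).2 h4
  have h6 : Q = Qp := PrimeSpectrum.ext (le_antisymm h5 h1)
  have h7 : hU.fromSpec Qp = hirr.genericPoint := by rw [← h6, hQ]
  rw [h7]
  exact specializes_iff_mem_closure.mpr (hcl.symm.subset hx)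

/-- `dim A/p_ξ ≤ dim Z` for a closed set `Z ∋ ξ` -/
theorem ringKrullDim_quotient_primeIdealOf_le (U : X.Opens) (hU : IsAffineOpen U) (ξ : X) (hξU : ξ ∈ U)
    (Z : Set X) (hZ : IsClosed Z) (hξZ : ξ ∈ Z) :
    ringKrullDim (Γ(X, U) ⧸ (hU.primeIdealOf ⟨ξ, hξU⟩).asIdeal) ≤ topologicalKrullDim ↥Z := by
  rw [← PrimeSpectrum.topologicalKrullDim_eq_ringKrullDim]
  let f : PrimeSpectrum (Γ(X, U) ⧸ (hU.primeIdealOf ⟨ξ, hξU⟩).asIdeal) → X := fun q =>
    hU.fromSpec (PrimeSpectrum.comap (Ideal.Quotient.mk (hU.primeIdealOf ⟨ξ, hξU⟩).asIdeal) q)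
  have hf : Topology.IsInducing f :=
    hU.fromSpec.isOpenEmbedding.isInducing.comp
      (PrimeSpectrum.isClosedEmbedding_comap_of_surjective _ _
        Ideal.Quotient.mk_surjective).isInducing
  have hmem : ∀ q, f q ∈ Z := by
    intro q
    have hle : hU.primeIdealOf ⟨ξ, hξU⟩ ≤
        PrimeSpectrum.comap (Ideal.Quotient.mk (hU.primeIdealOf ⟨ξ, hξU⟩).asIdeal) q := by
      intro a ha
      show Ideal.Quotient.mk _ a ∈ q.asIdeal
      rw [Ideal.Quotient.eq_zero_iff_mem.2 ha]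
      exact zero_mem _
    have hsp : hU.fromSpec (hU.primeIdealOf ⟨ξ, hξU⟩) ⤳ f q :=
      hU.fromSpec.isOpenEmbedding.isInducing.specializes_iff.mpr
        ((PrimeSpectrum.le_iff_specializes _ _).1 hle)
    rw [hU.fromSpec_primeIdealOf ⟨ξ, hξU⟩] at hsp
    exact hsp.mem_closed hZ hξZ
  exact (hf.codRestrict hmem).topologicalKrullDim_le

theorem ringKrullDim_le_topologicalKrullDim (U : X.Opens) (hU : IsAffineOpen U) :
    ringKrullDim Γ(X, U) ≤ topologicalKrullDim X := by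
  rw [← PrimeSpectrum.topologicalKrullDim_eq_ringKrullDim]
  exact hU.fromSpec.isOpenEmbedding.isInducing.topologicalKrullDim_le


/-- (F3): at a maximal point of `V ∩ W`, the ideal `I_V + I_W` of the local ring is primary to the
maximal ideal -/
theorem exists_pow_le_sup (IV IW : X.IdealSheafData) (ξ : X)
    (hmax : ∀ ξ' : X, ξ' ∈ IV.support → ξ' ∈ IW.support → ξ' ⤳ ξ → ξ' = ξ)
    (hξV : ξ ∈ IV.support) (hξW : ξ ∈ IW.support)
    [IsNoetherianRing (X.presheaf.stalk ξ)] :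
    ∃ k : ℕ, IsLocalRing.maximalIdeal (X.presheaf.stalk ξ) ^ k ≤
      IntMult.stalkIdeal IV ξ ⊔ IntMult.stalkIdeal IW ξ := by
  obtain ⟨_, ⟨U, hU, rfl⟩, hξU, -⟩ :=
    X.isBasis_affineOpens.exists_subset_of_mem_open (Set.mem_univ ξ) isOpen_univ
  replace hU : IsAffineOpen U := hU
  rw [stalkIdeal_eq_map IV ξ ⟨U, hU⟩ hξU, stalkIdeal_eq_map IW ξ ⟨U, hU⟩ hξU]
  letI := X.presheaf.algebra_section_stalk ⟨ξ, hξU⟩
  haveI := hU.isLocalization_stalk ⟨ξ, hξU⟩
  have hmapV : (IV.ideal ⟨U, hU⟩).map (X.presheaf.germ U ξ hξU).hom =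
      (IV.ideal ⟨U, hU⟩).map (algebraMap Γ(X, U) (X.presheaf.stalk ξ)) := rfl
  have hmapW : (IW.ideal ⟨U, hU⟩).map (X.presheaf.germ U ξ hξU).hom =
      (IW.ideal ⟨U, hU⟩).map (algebraMap Γ(X, U) (X.presheaf.stalk ξ)) := rfl
  rw [hmapV, hmapW]
  have hpm : (hU.primeIdealOf ⟨ξ, hξU⟩).asIdeal.map (algebraMap Γ(X, U) (X.presheaf.stalk ξ)) =
      IsLocalRing.maximalIdeal (X.presheaf.stalk ξ) :=
    IsLocalization.AtPrime.map_eq_maximalIdeal _ _
  have hcm : (IsLocalRing.maximalIdeal (X.presheaf.stalk ξ)).comap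
      (algebraMap Γ(X, U) (X.presheaf.stalk ξ)) = (hU.primeIdealOf ⟨ξ, hξU⟩).asIdeal :=
    IsLocalization.AtPrime.under_maximalIdeal _ _
  have hprime : ∀ Q' : Ideal (X.presheaf.stalk ξ), Q'.IsPrime →
      (IV.ideal ⟨U, hU⟩).map (algebraMap Γ(X, U) (X.presheaf.stalk ξ)) ⊔
        (IW.ideal ⟨U, hU⟩).map (algebraMap Γ(X, U) (X.presheaf.stalk ξ)) ≤ Q' →
      Q' = IsLocalRing.maximalIdeal (X.presheaf.stalk ξ) := by
    intro Q' hQ' hJQ'
    let Q : PrimeSpectrum Γ(X, U) :=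
      ⟨Q'.comap (algebraMap Γ(X, U) (X.presheaf.stalk ξ)), inferInstance⟩
    have hQp : Q ≤ hU.primeIdealOf ⟨ξ, hξU⟩ := by
      show Q'.comap _ ≤ (hU.primeIdealOf ⟨ξ, hξU⟩).asIdeal
      rw [← hcm]
      exact Ideal.comap_mono (IsLocalRing.le_maximalIdeal hQ'.ne_top)
    have hV : IV.ideal ⟨U, hU⟩ ≤ Q.asIdeal :=
      Ideal.map_le_iff_le_comap.1 (le_sup_left.trans hJQ')
    have hW : IW.ideal ⟨U, hU⟩ ≤ Q.asIdeal :=
      Ideal.map_le_iff_le_comap.1 (le_sup_right.trans hJQ')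
    have h1 := (fromSpec_mem_support_iff IV U hU Q).2 hV
    have h2 := (fromSpec_mem_support_iff IW U hU Q).2 hW
    have h3 : hU.fromSpec Q ⤳ ξ := by
      have := hU.fromSpec.isOpenEmbedding.isInducing.specializes_iff.mpr
        ((PrimeSpectrum.le_iff_specializes _ _).1 hQp)
      rwa [hU.fromSpec_primeIdealOf ⟨ξ, hξU⟩] at this
    have h4 := hmax _ h1 h2 h3
    have h5 : Q = hU.primeIdealOf ⟨ξ, hξU⟩ :=
      hU.fromSpec.isOpenEmbedding.injective (h4.trans (hU.fromSpec_primeIdealOf ⟨ξ, hξU⟩).symm)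
    have h6 : Q'.comap (algebraMap Γ(X, U) (X.presheaf.stalk ξ)) =
        (hU.primeIdealOf ⟨ξ, hξU⟩).asIdeal := congrArg PrimeSpectrum.asIdeal h5
    have h7 := IsLocalization.map_under (hU.primeIdealOf ⟨ξ, hξU⟩).asIdeal.primeCompl
      (X.presheaf.stalk ξ) Q'
    rw [← h7]
    show Ideal.map _ (Q'.comap (algebraMap Γ(X, U) (X.presheaf.stalk ξ))) = _
    rw [h6, hpm]
  have hJm : (IV.ideal ⟨U, hU⟩).map (algebraMap Γ(X, U) (X.presheaf.stalk ξ)) ⊔
      (IW.ideal ⟨U, hU⟩).map (algebraMap Γ(X, U) (X.presheaf.stalk ξ)) ≤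
      IsLocalRing.maximalIdeal (X.presheaf.stalk ξ) := by
    rw [← hpm]
    exact sup_le (Ideal.map_mono (ideal_le_primeIdealOf IV ⟨U, hU⟩ ξ hξU hξV))
      (Ideal.map_mono (ideal_le_primeIdealOf IW ⟨U, hU⟩ ξ hξU hξW))
  have hrad : ((IV.ideal ⟨U, hU⟩).map (algebraMap Γ(X, U) (X.presheaf.stalk ξ)) ⊔
      (IW.ideal ⟨U, hU⟩).map (algebraMap Γ(X, U) (X.presheaf.stalk ξ))).radical =
      IsLocalRing.maximalIdeal (X.presheaf.stalk ξ) := by
    apply le_antisymm
    · refine (Ideal.radical_mono hJm).trans ?_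
      rw [(IsLocalRing.maximalIdeal.isMaximal _).isPrime.radical]
    · rw [Ideal.radical_eq_sInf]
      apply le_sInf
      rintro Q' ⟨hJQ', hQ'⟩
      rw [hprime Q' hQ' hJQ']
  obtain ⟨k, hk⟩ := Ideal.exists_radical_pow_le_of_fg _
    (IsNoetherian.noetherian (((IV.ideal ⟨U, hU⟩).map
      (algebraMap Γ(X, U) (X.presheaf.stalk ξ)) ⊔
      (IW.ideal ⟨U, hU⟩).map (algebraMap Γ(X, U) (X.presheaf.stalk ξ))).radical))
  rw [hrad] at hk
  exact ⟨k, hk⟩


theorem ne_bot_of_nonneg {x : WithBot ℕ∞} (h : 0 ≤ x) : x ≠ ⊥ := by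
  intro h'
  rw [h'] at h
  exact absurd h (by simp)

theorem exists_nat_of_add_eq {x : WithBot ℕ∞} (h0 : 0 ≤ x) {e a : ℕ}
    (h : x + (e : WithBot ℕ∞) = (a : WithBot ℕ∞)) : ∃ b : ℕ, x = b := by
  refine Groth.Agent.H54.exists_nat_eq_of_le (ne_bot_of_nonneg h0) (n := a) ?_
  rw [← h]
  exact le_add_of_nonneg_right (by exact_mod_cast Nat.zero_le e)

/-- (G): proper intersection forces `dim O_ξ ≤ dim O_ξ/I_V + dim O_ξ/I_W`. -/
theorem ringKrullDim_stalk_le_add {K : Type u} [Field K] (f : X ⟶ Spec (CommRingCat.of K))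
    [LocallyOfFiniteType f] [IsIntegral X]
    (IV IW : X.IdealSheafData) [IsIntegral IV.subscheme] [IsIntegral IW.subscheme] (n r s : ℕ)
    (hn : topologicalKrullDim X = n) (hr : topologicalKrullDim IV.support = r)
    (hs : topologicalKrullDim IW.support = s)
    (hprop : IntMult.ProperInt (IV.support : Set X) (IW.support : Set X) n r s) (ξ : X)
    (hξV : ξ ∈ IV.support) (hξW : ξ ∈ IW.support) :
    ringKrullDim (X.presheaf.stalk ξ) ≤
      ringKrullDim (X.presheaf.stalk ξ ⧸ IntMult.stalkIdeal IV ξ) +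
        ringKrullDim (X.presheaf.stalk ξ ⧸ IntMult.stalkIdeal IW ξ) := by
  obtain ⟨_, ⟨U, hU, rfl⟩, hξU, -⟩ :=
    X.isBasis_affineOpens.exists_subset_of_mem_open (Set.mem_univ ξ) isOpen_univ
  replace hU : IsAffineOpen U := hU
  obtain ⟨ψ, hψ, hft⟩ := exists_chart_data f U hU
  letI : Algebra K Γ(X, U) := ψ.hom.toAlgebra
  haveI : Algebra.FiniteType K Γ(X, U) := hft
  haveI hne : Nonempty ↥U := ⟨⟨ξ, hξU⟩⟩
  haveI : IsDomain Γ(X, U) := @IsIntegral.component_integral _ _ U hne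
  letI := X.presheaf.algebra_section_stalk ⟨ξ, hξU⟩
  haveI := hU.isLocalization_stalk ⟨ξ, hξU⟩
  haveI hPV := isPrime_ideal_of_isIntegral IV ⟨U, hU⟩ ξ hξU hξV
  haveI hPW := isPrime_ideal_of_isIntegral IW ⟨U, hU⟩ ξ hξU hξW
  have eV := ringKrullDim_localization_quotient_add K Γ(X, U) (X.presheaf.stalk ξ)
    (hU.primeIdealOf ⟨ξ, hξU⟩).asIdeal (IV.ideal ⟨U, hU⟩)
    (ideal_le_primeIdealOf IV ⟨U, hU⟩ ξ hξU hξV)
  have eW := ringKrullDim_localization_quotient_add K Γ(X, U) (X.presheaf.stalk ξ)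
    (hU.primeIdealOf ⟨ξ, hξU⟩).asIdeal (IW.ideal ⟨U, hU⟩)
    (ideal_le_primeIdealOf IW ⟨U, hU⟩ ξ hξU hξW)
  have e0 := ringKrullDim_localization_quotient_add K Γ(X, U) (X.presheaf.stalk ξ)
    (hU.primeIdealOf ⟨ξ, hξU⟩).asIdeal ⊥ bot_le
  rw [Ideal.map_bot, ringKrullDim_eq_of_ringEquiv (RingEquiv.quotientBot (X.presheaf.stalk ξ)),
    ringKrullDim_eq_of_ringEquiv (RingEquiv.quotientBot Γ(X, U))] at e0
  rw [stalkIdeal_eq_map IV ξ ⟨U, hU⟩ hξU, stalkIdeal_eq_map IW ξ ⟨U, hU⟩ hξU]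
  have hmapV : (IV.ideal ⟨U, hU⟩).map (X.presheaf.germ U ξ hξU).hom =
      (IV.ideal ⟨U, hU⟩).map (algebraMap Γ(X, U) (X.presheaf.stalk ξ)) := rfl
  have hmapW : (IW.ideal ⟨U, hU⟩).map (X.presheaf.germ U ξ hξU).hom =
      (IW.ideal ⟨U, hU⟩).map (algebraMap Γ(X, U) (X.presheaf.stalk ξ)) := rfl
  rw [hmapV, hmapW]
  have ha : ringKrullDim Γ(X, U) ≤ (n : WithBot ℕ∞) :=
    hn ▸ ringKrullDim_le_topologicalKrullDim U hU
  obtain ⟨h1, h2⟩ := hprop ⟨ξ, hξV, hξW⟩
  have hb : ringKrullDim (Γ(X, U) ⧸ (hU.primeIdealOf ⟨ξ, hξU⟩).asIdeal) ≤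
      ((r + s - n : ℕ) : WithBot ℕ∞) :=
    (ringKrullDim_quotient_primeIdealOf_le U hU ξ hξU _
      (IV.support.isClosed.inter IW.support.isClosed) ⟨hξV, hξW⟩).trans h2
  have hcV : (r : WithBot ℕ∞) ≤ ringKrullDim (Γ(X, U) ⧸ IV.ideal ⟨U, hU⟩) := by
    have := topologicalKrullDim_support_le f IV U hU ξ hξU hξV
    have hr' : topologicalKrullDim ↥(IV.support : Set X) = r := hr
    rwa [hr'] at this
  have hcW : (s : WithBot ℕ∞) ≤ ringKrullDim (Γ(X, U) ⧸ IW.ideal ⟨U, hU⟩) := by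
    have := topologicalKrullDim_support_le f IW U hU ξ hξU hξW
    have hs' : topologicalKrullDim ↥(IW.support : Set X) = s := hs
    rwa [hs'] at this
  obtain ⟨a0, ha0⟩ : ∃ a0 : ℕ, ringKrullDim Γ(X, U) = a0 :=
    Groth.Agent.H54.exists_nat_eq_of_le (ne_bot_of_nonneg ringKrullDim_nonneg_of_nontrivial) ha
  obtain ⟨e, he⟩ : ∃ e : ℕ, ringKrullDim (Γ(X, U) ⧸ (hU.primeIdealOf ⟨ξ, hξU⟩).asIdeal) = e :=
    Groth.Agent.H54.exists_nat_eq_of_le (ne_bot_of_nonneg ringKrullDim_nonneg_of_nontrivial) hb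
  obtain ⟨aV, haV⟩ : ∃ aV : ℕ, ringKrullDim (Γ(X, U) ⧸ IV.ideal ⟨U, hU⟩) = aV :=
    Groth.Agent.H54.exists_nat_eq_of_le (ne_bot_of_nonneg ringKrullDim_nonneg_of_nontrivial)
      ((ringKrullDim_quotient_le _).trans ha)
  obtain ⟨aW, haW⟩ : ∃ aW : ℕ, ringKrullDim (Γ(X, U) ⧸ IW.ideal ⟨U, hU⟩) = aW :=
    Groth.Agent.H54.exists_nat_eq_of_le (ne_bot_of_nonneg ringKrullDim_nonneg_of_nontrivial)
      ((ringKrullDim_quotient_le _).trans ha)
  rw [he, ha0] at e0
  rw [he, haV] at eV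
  rw [he, haW] at eW
  rw [he] at hb
  rw [haV] at hcV
  rw [haW] at hcW
  rw [ha0] at ha
  have hntV : Nontrivial (↑(X.presheaf.stalk ξ) ⧸
      (IV.ideal ⟨U, hU⟩).map (algebraMap Γ(X, U) (X.presheaf.stalk ξ))) := by
    by_contra hnt
    rw [not_nontrivial_iff_subsingleton] at hnt
    rw [ringKrullDim_eq_bot_of_subsingleton, WithBot.bot_add] at eV
    exact absurd eV (by simp)
  have hntW : Nontrivial (↑(X.presheaf.stalk ξ) ⧸
      (IW.ideal ⟨U, hU⟩).map (algebraMap Γ(X, U) (X.presheaf.stalk ξ))) := by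
    by_contra hnt
    rw [not_nontrivial_iff_subsingleton] at hnt
    rw [ringKrullDim_eq_bot_of_subsingleton, WithBot.bot_add] at eW
    exact absurd eW (by simp)
  obtain ⟨x0, hx0⟩ := exists_nat_of_add_eq ringKrullDim_nonneg_of_nontrivial e0
  obtain ⟨xV, hxV⟩ := exists_nat_of_add_eq ringKrullDim_nonneg_of_nontrivial eV
  obtain ⟨xW, hxW⟩ := exists_nat_of_add_eq ringKrullDim_nonneg_of_nontrivial eW
  rw [hx0] at e0 ⊢
  rw [hxV] at eV ⊢
  rw [hxW] at eW ⊢
  have e0' : x0 + e = a0 := by exact_mod_cast e0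
  have eV' : xV + e = aV := by exact_mod_cast eV
  have eW' : xW + e = aW := by exact_mod_cast eW
  have ha' : a0 ≤ n := by exact_mod_cast ha
  have hb' : e ≤ r + s - n := by exact_mod_cast hb
  have hcV' : r ≤ aV := by exact_mod_cast hcV
  have hcW' : s ≤ aW := by exact_mod_cast hcW
  have : x0 ≤ xV + xW := by omega
  exact_mod_cast this


theorem withBot_cancel {a b : WithBot ℕ∞} {c : ℕ} (ha : a ≠ ⊥) (ha' : a ≠ ⊤)
    (h : a + c ≤ a + b) : (c : WithBot ℕ∞) ≤ b := by
  induction a using WithBot.recBotCoe with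
  | bot => exact absurd rfl ha
  | coe a =>
    induction a using ENat.recTopCoe with
    | top => exact absurd rfl ha'
    | coe m =>
      induction b using WithBot.recBotCoe with
      | bot =>
        rw [WithBot.add_bot] at h
        have h' : (((m + c : ℕ) : ℕ∞) : WithBot ℕ∞) ≤ ⊥ := by exact_mod_cast h
        exact absurd h' (by simp)
      | coe b =>
        induction b using ENat.recTopCoe with
        | top => exact_mod_cast (le_top : (c : ℕ∞) ≤ ⊤)
        | coe k =>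
          have h' : m + c ≤ m + k := by exact_mod_cast h
          exact_mod_cast (by omega : c ≤ k)

/-- (G'): if `I_V` is generated at `ξ` by a regular sequence of length `c` then
`c ≤ dim O_ξ/I_W`. -/
theorem natCast_le_ringKrullDim_quotient {K : Type u} [Field K]
    (f : X ⟶ Spec (CommRingCat.of K))
    [LocallyOfFiniteType f] [IsIntegral X]
    (IV IW : X.IdealSheafData) [IsIntegral IV.subscheme] [IsIntegral IW.subscheme] (n r s : ℕ)
    (hn : topologicalKrullDim X = n) (hr : topologicalKrullDim IV.support = r)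
    (hs : topologicalKrullDim IW.support = s)
    (hprop : IntMult.ProperInt (IV.support : Set X) (IW.support : Set X) n r s) (ξ : X)
    (hξV : ξ ∈ IV.support) (hξW : ξ ∈ IW.support)
    [IsNoetherianRing (X.presheaf.stalk ξ)] (c : ℕ) (g : Fin c → ↑(X.presheaf.stalk ξ))
    (hg : IntMult.stalkIdeal IV ξ = Ideal.span (Set.range g))
    (hreg : RingTheory.Sequence.IsRegular (↑(X.presheaf.stalk ξ)) (List.ofFn g)) :
    (c : WithBot ℕ∞) ≤ ringKrullDim (X.presheaf.stalk ξ ⧸ IntMult.stalkIdeal IW ξ) := by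
  have hG := ringKrullDim_stalk_le_add f IV IW n r s hn hr hs hprop ξ hξV hξW
  have h1 := Module.supportDim_add_length_eq_supportDim_of_isRegular
    (R := X.presheaf.stalk ξ) (M := X.presheaf.stalk ξ) (List.ofFn g) hreg
  have hset : {a | a ∈ List.ofFn g} = Set.range g := by
    ext a
    simp [List.mem_ofFn]
  have hI : (Ideal.ofList (List.ofFn g) • (⊤ : Submodule (X.presheaf.stalk ξ) (X.presheaf.stalk ξ)))
      = IntMult.stalkIdeal IV ξ := by
    rw [hg, Ideal.ofList, hset, smul_eq_mul, Ideal.mul_top]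
  rw [hI, Module.supportDim_quotient_eq_ringKrullDim, Module.supportDim_self_eq_ringKrullDim,
    List.length_ofFn] at h1
  rw [← h1] at hG
  haveI : Nontrivial (↑(X.presheaf.stalk ξ) ⧸ IntMult.stalkIdeal IV ξ) := by
    by_contra hnt
    rw [not_nontrivial_iff_subsingleton] at hnt
    rw [ringKrullDim_eq_bot_of_subsingleton, WithBot.bot_add] at h1
    exact ne_bot_of_nonneg (ringKrullDim_nonneg_of_nontrivial (R := X.presheaf.stalk ξ)) h1.symm
  refine withBot_cancel (ne_bot_of_nonneg ringKrullDim_nonneg_of_nontrivial) ?_ hG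
  intro htop
  rw [htop] at h1
  have h2 : ringKrullDim (X.presheaf.stalk ξ) ≠ ⊤ := ringKrullDim_ne_top
  apply h2
  rw [← h1]
  rfl

end Groth.Agent.H17.IM
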