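import Mathlib
import Groth.Agent.H17.KE.TorKoszul
import Groth.Agent.H82.TorSymm

/-!
# Serre's intersection number against a Cartier divisor
-/

set_option autoImplicit false
universe u

namespace Groth.Agent.H17.IM

open CategoryTheory Groth.Agent.H17.KE RingTheory.Sequence

variable {A : Type u} [CommRing A]

/-- `χ(M, N) = χ(N, M)` -/
theorem chi_symm (M N : Type u) [AddCommGroup M] [Module A M] [AddCommGroup N] [Module A N] :
    IntMult.chi A M N = IntMult.chi A N M := by
  unfold IntMult.chi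
  refine finsum_congr fun i => ?_
  obtain ⟨e⟩ := Groth.Agent.H82.TorSymm.nonempty_tor_iso_flip (A := A) i
  have e' : DRing.Tor A i M N ≃ₗ[A] DRing.Tor A i N M :=
    ((e.app (ModuleCat.of A M)).app (ModuleCat.of A N)).toLinearEquiv
  rw [e'.length_eq]

theorem chi_congr_right (M : Type u) [AddCommGroup M] [Module A M] {I J : Ideal A} (h : I = J) :
    IntMult.chi A M (A ⧸ I) = IntMult.chi A M (A ⧸ J) := by
  subst h; rfl

/-- `χ(A/J, A/(g)) = ℓ(A/(J + (g)))` when `g` is regular on `A` and on `A/J`. -/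
theorem chi_cartier [IsNoetherianRing A] (J : Ideal A) (g : A) (hregA : IsSMulRegular A g)
    (hregM : IsSMulRegular (A ⧸ J) g) :
    IntMult.chi A (A ⧸ J) (A ⧸ Ideal.span {g}) =
      ((Module.length A (A ⧸ (J ⊔ Ideal.span {g}))).toNat : ℤ) := by
  rw [chi_symm]
  have hrange : Ideal.span (Set.range (fun _ : Fin 1 => g)) = Ideal.span {g} := by
    congr 1
    ext a
    simp
  have hofFn : List.ofFn (fun _ : Fin 1 => g) = [g] := by simp
  have hregl : IsWeaklyRegular A (List.ofFn (fun _ : Fin 1 => g)) := by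
    rw [hofFn]
    exact (isWeaklyRegular_cons_iff A g []).2 ⟨hregA, IsWeaklyRegular.nil _ _⟩
  have h1 := intMult_chi_eq_chi (fun _ : Fin 1 => g) hregl (A ⧸ J)
  have h2 : IntMult.chi A (A ⧸ Ideal.span {g}) (A ⧸ J) =
      IntMult.chi A (A ⧸ Ideal.span (Set.range (fun _ : Fin 1 => g))) (A ⧸ J) := by
    rw [hrange]
  rw [h2, h1, hofFn, Groth.Agent.S3311.chi_eq_sum]
  simp only [List.length_cons, List.length_nil, zero_add]
  rw [Finset.sum_range_succ, Finset.sum_range_one]
  have hz : hl [g] (A ⧸ J) (-((1 : ℕ) : ℤ)) = 0 := by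
    rw [hl_cons_of_regular g [] (A ⧸ J) hregM]
    exact hl_eq_zero [] _ _ (Or.inl (by simp))
  rw [hz]
  simp only [pow_zero, one_mul, Nat.cast_zero, neg_zero, ENat.toNat_zero, mul_zero, add_zero]
  rw [Groth.Agent.S3311.hl_zero]
  have hspan : Ideal.span {a | a ∈ [g]} = Ideal.span {g} := by
    congr 1
    ext a
    simp
  rw [hspan]
  -- `(A/J)/(g)(A/J) ≃ A/(J + (g))`
  have e : ((A ⧸ J) ⧸ (Ideal.span {g} • (⊤ : Submodule A (A ⧸ J)))) ≃ₗ[A]
      (A ⧸ (J ⊔ Ideal.span {g})) := by
    have hmap : Ideal.span {g} • (⊤ : Submodule A (A ⧸ J)) =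
        Submodule.map (Submodule.mkQ J) (J ⊔ Ideal.span {g}) := by
      rw [Submodule.map_sup]
      have h0 : Submodule.map (Submodule.mkQ J) J = ⊥ := by
        rw [← LinearMap.le_ker_iff_map, Submodule.ker_mkQ]
      rw [h0, bot_sup_eq]
      have h1' : Submodule.map (Submodule.mkQ J) (Ideal.span {g} • (⊤ : Submodule A A)) =
          Ideal.span {g} • (⊤ : Submodule A (A ⧸ J)) := by
        rw [Submodule.map_smul'', Submodule.map_top, Submodule.range_mkQ]
      have h2' : (Ideal.span {g} • (⊤ : Submodule A A)) = (Ideal.span {g} : Ideal A) := by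
        rw [smul_eq_mul, Ideal.mul_top]
      rw [← h1', h2']
    rw [hmap]
    exact (Submodule.quotientQuotientEquivQuotient J (J ⊔ Ideal.span {g}) le_sup_left)
  rw [e.length_eq]

end Groth.Agent.H17.IM
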