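import Mathlib

/-!
# Embedding dimensions of `R/I` and `R/J` when `I + J` is the maximal ideal
-/

set_option autoImplicit false
universe u

namespace Groth.Agent.H17.IM

open IsLocalRing

/-- if `I + J = 𝔪` then `𝔪` has a minimal generating set inside `I ∪ J` -/
theorem exists_generators_in_union (R : Type u) [CommRing R] [IsLocalRing R] [IsNoetherianRing R]
    (I J : Ideal R) (hIJ : I ⊔ J = maximalIdeal R) :
    ∃ T : Set R, T.Finite ∧ T ⊆ (I : Set R) ∪ J ∧ Ideal.span T = maximalIdeal R ∧
      T.ncard ≤ (maximalIdeal R).spanFinrank := by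
  classical
  have hI : I ≤ maximalIdeal R := hIJ ▸ le_sup_left
  have hJ : J ≤ maximalIdeal R := hIJ ▸ le_sup_right
  let s : Set (maximalIdeal R) := {x | (x : R) ∈ I ∨ (x : R) ∈ J}
  have hs : Submodule.span R s = ⊤ := by
    rw [eq_top_iff]
    rintro ⟨x, hx⟩ -
    have hx' : x ∈ I ⊔ J := hIJ ▸ hx
    obtain ⟨u, hu, v, hv, huv⟩ := Submodule.mem_sup.1 hx'
    have : (⟨x, hx⟩ : maximalIdeal R) = ⟨u, hI hu⟩ + ⟨v, hJ hv⟩ := Subtype.ext huv.symm
    rw [this]
    exact Submodule.add_mem _ (Submodule.subset_span (Or.inl hu))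
      (Submodule.subset_span (Or.inr hv))
  have hs' := (IsLocalRing.CotangentSpace.span_image_eq_top_iff (R := R) (s := s)).2 hs
  obtain ⟨b, hbs, hbspan, hbli⟩ := exists_linearIndependent (ResidueField R)
    ((maximalIdeal R).toCotangent '' s)
  rw [hs'] at hbspan
  have hbfin : b.Finite := hbli.setFinite
  have hbcard : b.ncard = Module.finrank (ResidueField R) (CotangentSpace R) := by
    haveI := hbfin.fintype
    have h1 := finrank_span_set_eq_card (R := ResidueField R) (s := b) hbli
    rw [hbspan, finrank_top] at h1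
    rw [h1, Set.ncard_eq_toFinset_card']
  choose! lift hlift using (fun c (hc : c ∈ b) => hbs hc)
  have hT's : lift '' b ⊆ s := by
    rintro _ ⟨c, hc, rfl⟩
    exact (hlift c hc).1
  have himg : (maximalIdeal R).toCotangent '' (lift '' b) = b := by
    ext c
    constructor
    · rintro ⟨_, ⟨c', hc', rfl⟩, rfl⟩
      rw [(hlift c' hc').2]
      exact hc'
    · intro hc
      exact ⟨lift c, ⟨c, hc, rfl⟩, (hlift c hc).2⟩
  have hT'span : Submodule.span R (lift '' b) = ⊤ :=
    (IsLocalRing.CotangentSpace.span_image_eq_top_iff (R := R)).1 (by rw [himg]; exact hbspan)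
  refine ⟨Subtype.val '' (lift '' b), (hbfin.image _).image _, ?_, ?_, ?_⟩
  · rintro _ ⟨x, hx, rfl⟩
    exact hT's hx
  · have := congrArg (Submodule.map (maximalIdeal R).subtype) hT'span
    rw [Submodule.map_span, Submodule.map_top, Submodule.range_subtype] at this
    exact this
  · calc (Subtype.val '' (lift '' b)).ncard ≤ (lift '' b).ncard :=
          Set.ncard_image_le (hbfin.image _)
      _ ≤ b.ncard := Set.ncard_image_le hbfin
      _ = _ := by rw [hbcard, spanFinrank_maximalIdeal_eq_finrank_cotangentSpace]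

theorem spanFinrank_maximalIdeal_quotient_le (R : Type u) [CommRing R] [IsLocalRing R]
    (I : Ideal R) [IsLocalRing (R ⧸ I)] (T : Set R) (hT : T.Finite)
    (hTspan : Ideal.span T = maximalIdeal R) :
    (maximalIdeal (R ⧸ I)).spanFinrank ≤ (T \ (I : Set R)).ncard := by
  have h1 : maximalIdeal (R ⧸ I) = Ideal.span (Ideal.Quotient.mk I '' (T \ (I : Set R))) := by
    rw [← IsLocalRing.map_maximalIdeal_of_surjective (Ideal.Quotient.mk I)
      Ideal.Quotient.mk_surjective, ← hTspan, Ideal.map_span]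
    apply le_antisymm
    · rw [Ideal.span_le]
      rintro _ ⟨x, hx, rfl⟩
      by_cases hxI : x ∈ I
      · rw [Ideal.Quotient.eq_zero_iff_mem.2 hxI]
        exact zero_mem _
      · exact Ideal.subset_span ⟨x, ⟨hx, hxI⟩, rfl⟩
    · exact Ideal.span_mono (Set.image_mono Set.sdiff_subset)
  rw [h1]
  exact (Submodule.spanFinrank_span_le_ncard_of_finite
    ((hT.subset Set.sdiff_subset).image _)).trans (Set.ncard_image_le (hT.subset Set.sdiff_subset))

/-- `embdim R/I + embdim R/J ≤ embdim R` when `I + J = 𝔪`. -/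
theorem spanFinrank_quotient_add_le (R : Type u) [CommRing R] [IsLocalRing R] [IsNoetherianRing R]
    (I J : Ideal R) (hIJ : I ⊔ J = maximalIdeal R) [IsLocalRing (R ⧸ I)] [IsLocalRing (R ⧸ J)] :
    (maximalIdeal (R ⧸ I)).spanFinrank + (maximalIdeal (R ⧸ J)).spanFinrank ≤
      (maximalIdeal R).spanFinrank := by
  obtain ⟨T, hTfin, hTsub, hTspan, hTcard⟩ := exists_generators_in_union R I J hIJ
  have h1 := spanFinrank_maximalIdeal_quotient_le R I T hTfin hTspan
  have h2 := spanFinrank_maximalIdeal_quotient_le R J T hTfin hTspan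
  have h3 : T \ (J : Set R) ⊆ T ∩ (I : Set R) := fun x hx =>
    ⟨hx.1, (hTsub hx.1).resolve_right hx.2⟩
  have h4 := Set.ncard_le_ncard h3 (hTfin.subset Set.inter_subset_left)
  have h5 := Set.ncard_inter_add_ncard_sdiff_eq_ncard T (I : Set R) hTfin
  omega

end Groth.Agent.H17.IM
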