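import Mathlib

/-!
# A proper closed subset of an irreducible space has smaller dimension
-/

set_option autoImplicit false

namespace Groth.Agent.H17.IM

open TopologicalSpace Topology

theorem succ_le_of_closed_ne_univ {T : Type*} [TopologicalSpace T] [IrreducibleSpace T]
    (Z : Set T) (hZ : IsClosed Z) (hne : Z ≠ Set.univ) (r n : ℕ)
    (hr : topologicalKrullDim Z = r) (hn : topologicalKrullDim T = n) : r + 1 ≤ n := by
  have h1 : ((r : ℕ) : WithBot ℕ∞) ≤ Order.krullDim (IrreducibleCloseds Z) := le_of_eq hr.symm
  obtain ⟨l, hl⟩ := (Order.le_krullDim_iff).1 h1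
  have hind : IsInducing (Subtype.val : Z → T) := IsInducing.subtypeVal
  let l' : LTSeries (IrreducibleCloseds T) :=
    l.map (IrreducibleCloseds.map Subtype.val hind.continuous)
      (IrreducibleCloseds.map_strictMono_of_isInducing hind)
  let Top : IrreducibleCloseds T :=
    ⟨Set.univ, IrreducibleSpace.isIrreducible_univ T, isClosed_univ⟩
  have hlast : (l'.last : Set T) ⊆ Z := by
    show ((IrreducibleCloseds.map Subtype.val hind.continuous l.last : IrreducibleCloseds T) :
      Set T) ⊆ Z
    rw [IrreducibleCloseds.coe_map]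
    refine closure_minimal ?_ hZ
    rintro _ ⟨y, -, rfl⟩
    exact y.2
  have hlt : l'.last < Top := by
    refine lt_of_le_of_ne (fun x _ => Set.mem_univ x) ?_
    intro h
    apply hne
    have : (l'.last : Set T) = Set.univ := congrArg (fun c : IrreducibleCloseds T => (c : Set T)) h
    exact Set.eq_univ_of_univ_subset (this ▸ hlast)
  have hlen := Order.LTSeries.length_le_krullDim (l'.snoc Top hlt)
  have h2 : (((l'.snoc Top hlt).length : ℕ) : WithBot ℕ∞) ≤ (n : WithBot ℕ∞) :=
    le_of_le_of_eq hlen hn
  simp only [RelSeries.snoc_length, l', LTSeries.map_length, hl] at h2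
  exact_mod_cast h2

end Groth.Agent.H17.IM
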