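import Mathlib
import Groth.Agent.H17.IM.Stalk
import Groth.Agent.H17.IM.TopDim

/-!
# Proper intersection: `I_V ≤ I_W` at a point of `V ∩ W` forces `V = X`
-/

set_option autoImplicit false
universe u

namespace Groth.Agent.H17.IM

open AlgebraicGeometry CategoryTheory TopologicalSpace

theorem stalkIdeal_eq_bot_of_le {X : Scheme.{u}} [IsIntegral X] (IV IW : X.IdealSheafData)
    [IsIntegral IV.subscheme] [IsIntegral IW.subscheme] (n r s : ℕ)
    (hn : topologicalKrullDim X = n) (hr : topologicalKrullDim IV.support = r)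
    (hs : topologicalKrullDim IW.support = s)
    (hprop : IntMult.ProperInt (IV.support : Set X) (IW.support : Set X) n r s) (ξ : X)
    (hξV : ξ ∈ IV.support) (hξW : ξ ∈ IW.support)
    (hle : IntMult.stalkIdeal IV ξ ≤ IntMult.stalkIdeal IW ξ) :
    IntMult.stalkIdeal IV ξ = ⊥ := by
  have hsub : (IW.support : Set X) ⊆ (IV.support : Set X) :=
    support_subset_of_stalkIdeal_le IW IV ξ hξW hle
  have hVW : (IV.support : Set X) ∩ (IW.support : Set X) = (IW.support : Set X) :=
    Set.inter_eq_right.2 hsub
  obtain ⟨h1, h2⟩ := hprop ⟨ξ, hξV, hξW⟩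
  rw [hVW] at h2
  have hs' : topologicalKrullDim ↥(IW.support : Set X) = s := hs
  rw [hs'] at h2
  have h3 : s ≤ r + s - n := by exact_mod_cast h2
  have hnr : n ≤ r := by omega
  have huniv : (IV.support : Set X) = Set.univ := by
    by_contra hne
    have hr' : topologicalKrullDim ↥(IV.support : Set X) = r := hr
    have := succ_le_of_closed_ne_univ (IV.support : Set X) IV.support.isClosed hne r n hr' hn
    omega
  have htop : IV.support = ⊤ := by
    apply SetLike.coe_injective
    rw [huniv]; rfl
  have hbot : IV = ⊥ := Scheme.IdealSheafData.support_eq_top_iff.1 htop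
  rw [hbot]
  exact stalkIdeal_bot ξ

end Groth.Agent.H17.IM
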