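import Mathlib

/-!
# `(A/J)/(I (A/J)) ≃ A/(J + I)` and powers of `I + J` on `A/J`
-/

set_option autoImplicit false
universe u

namespace Groth.Agent.H17.IM

variable {A : Type u} [CommRing A]

theorem smul_top_quotient_eq_map (J I : Ideal A) :
    I • (⊤ : Submodule A (A ⧸ J)) = Submodule.map (Submodule.mkQ J) (J ⊔ I) := by
  rw [Submodule.map_sup]
  have h0 : Submodule.map (Submodule.mkQ J) J = ⊥ := by
    rw [← LinearMap.le_ker_iff_map, Submodule.ker_mkQ]
  rw [h0, bot_sup_eq]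
  have h1' : Submodule.map (Submodule.mkQ J) (I • (⊤ : Submodule A A)) =
      I • (⊤ : Submodule A (A ⧸ J)) := by
    rw [Submodule.map_smul'', Submodule.map_top, Submodule.range_mkQ]
  have h2' : (I • (⊤ : Submodule A A)) = (I : Ideal A) := by
    rw [smul_eq_mul, Ideal.mul_top]
  rw [← h1', h2']

/-- `(A/J)/(I·(A/J)) ≃ A/(J + I)` -/
noncomputable def quotSmulTopEquiv (J I : Ideal A) :
    ((A ⧸ J) ⧸ (I • (⊤ : Submodule A (A ⧸ J)))) ≃ₗ[A] (A ⧸ (J ⊔ I)) := by
  rw [smul_top_quotient_eq_map]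
  exact (Submodule.quotientQuotientEquivQuotient J (J ⊔ I) le_sup_left)

theorem sup_pow_le (I W : Ideal A) (n : ℕ) : (I ⊔ W) ^ n ≤ I ^ n ⊔ W := by
  induction n with
  | zero => simp
  | succ n ih =>
    rw [pow_succ]
    refine (Ideal.mul_mono_left ih).trans ?_
    rw [Ideal.sup_mul]
    refine sup_le ?_ (Ideal.mul_le_left.trans le_sup_right)
    rw [Ideal.mul_sup]
    refine sup_le ?_ (Ideal.mul_le_right.trans le_sup_right)
    rw [← pow_succ]
    exact le_sup_left

theorem sup_pow_smul_top (I W : Ideal A) (n : ℕ) :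
    (I ⊔ W) ^ n • (⊤ : Submodule A (A ⧸ W)) = I ^ n • (⊤ : Submodule A (A ⧸ W)) := by
  rw [smul_top_quotient_eq_map, smul_top_quotient_eq_map]
  congr 1
  apply le_antisymm
  · exact sup_le le_sup_left ((sup_pow_le I W n).trans (by rw [sup_comm]))
  · exact sup_le_sup_left (Ideal.pow_right_mono le_sup_left n) W

end Groth.Agent.H17.IM
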