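import Mathlib
import Groth.Agent.H17.KE.TorKoszul

/-!
# Koszul Euler characteristic of a (weakly) regular sequence
-/

set_option autoImplicit false
universe u

namespace Groth.Agent.H17.IM

open CategoryTheory Groth.Agent.H17.KE RingTheory.Sequence

variable {A : Type u} [CommRing A]

/-- Koszul homology of a weakly regular sequence vanishes outside degree `0`. -/
theorem hl_eq_zero_of_isWeaklyRegular (l : List A) :
    ∀ (M : Type u) [AddCommGroup M] [Module A M], IsWeaklyRegular M l →
      ∀ j : ℤ, j ≠ 0 → hl l M j = 0 := by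
  induction l with
  | nil =>
    intro M _ _ _ j hj
    apply hl_eq_zero
    rcases lt_or_gt_of_ne hj with h | h
    · left; simpa using h
    · right; exact h
  | cons z L ih =>
    intro M _ _ h j hj
    rw [isWeaklyRegular_cons_iff] at h
    rw [hl_cons_of_regular z L M h.1 j]
    exact ih (QuotSMulTop z M) h.2 j hj

/-- `χ(l; M) = ℓ(M/(l)M)` for a weakly `M`-regular sequence `l`. -/
theorem chi_eq_length_of_isWeaklyRegular [IsNoetherianRing A] (l : List A) (M : Type u) [AddCommGroup M] [Module A M]
    (h : IsWeaklyRegular M l) :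
    chi l M = ((Module.length A (M ⧸ Ideal.span {a | a ∈ l} • (⊤ : Submodule A M))).toNat : ℤ) := by
  rw [Groth.Agent.S3311.chi_eq_sum, Finset.sum_range_succ']
  have hz : ∀ p ∈ Finset.range l.length,
      (-1 : ℤ) ^ (p + 1) * ((hl l M (-((p + 1 : ℕ) : ℤ))).toNat : ℤ) = 0 := by
    intro p _
    rw [hl_eq_zero_of_isWeaklyRegular l M h _ (by
      have : (0 : ℤ) < ((p + 1 : ℕ) : ℤ) := by exact_mod_cast Nat.succ_pos p
      omega)]
    simp
  rw [Finset.sum_eq_zero hz, zero_add]
  simp only [pow_zero, one_mul, Nat.cast_zero, neg_zero]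
  rw [Groth.Agent.S3311.hl_zero]

end Groth.Agent.H17.IM
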