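import Mathlib
import Groth.Agent.S2064
import Groth.Agent.S2612
import Groth.Agent.H72.FGRes
import Groth.Agent.H82.TorLib
import Groth.Agent.H82.TorSymm
import Groth.Agent.H29.Depth
import Groth.Agent.H15.DepthSpread
import Groth.Prelude.Def_DRing2

/-!
# Vanishing of higher Tor when `pd M ≤ depth N` and the Tor's are `𝔪`-power torsion
-/

set_option autoImplicit false
universe u

namespace Groth.Agent.H17.IM

open CategoryTheory MonoidalCategory IsLocalRing Groth.Agent.H72.PdLocal

variable {A : Type u} [CommRing A] [IsLocalRing A] [IsNoetherianRing A]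

/-- depth of `P ⊗ N` for a finite projective `P` is at least that of `N` -/
theorem le_depth_tensor_of_projective (P N : Type u) [AddCommGroup P] [Module A P]
    [Module.Finite A P] [Module.Projective A P] [AddCommGroup N] [Module A N]
    [Module.Finite A N] (δ : ℕ∞)
    (h : δ ≤ LocCoh.depth A N) : δ ≤ LocCoh.depth A (TensorProduct A P N) := by
  haveI : Module.Free A P := Module.free_of_flat_of_isLocalRing
  let β := Module.finBasis A P
  let ε : TensorProduct A P N ≃ₗ[A] (Fin (Module.finrank A P) → N) :=
    (TensorProduct.congr β.equivFun (LinearEquiv.refl A N)).trans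
      ((TensorProduct.comm A _ _).trans
        (TensorProduct.piScalarRight A A N (Fin (Module.finrank A P))))
  unfold LocCoh.depth at h ⊢
  rw [Groth.Agent.H15.DepthSpread.idealDepth_congr ε]
  exact Groth.Agent.S2612.le_depth_pi (maximalIdeal A) N δ h _


omit [IsLocalRing A] in
theorem finite_homology (C : ChainComplex (ModuleCat.{u} A) ℕ)
    (hfin : ∀ j, Module.Finite A (C.X j)) (i : ℕ) : Module.Finite A (C.homology i) := by
  haveI := hfin i
  haveI : IsNoetherian A (C.X i) := isNoetherian_of_isNoetherianRing_of_finite A _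
  haveI : Module.Finite A (C.cycles i) :=
    Module.Finite.of_injective (C.iCycles i).hom ((ModuleCat.mono_iff_injective _).1 inferInstance)
  exact Module.Finite.of_surjective (C.homologyπ i).hom
    ((ModuleCat.epi_iff_surjective _).1 inferInstance)

/-- If `pd M ≤ e ≤ depth N` and the higher `Tor_i(M, N)` are killed by a power of every element of
the maximal ideal, then they vanish (acyclicity lemma). -/
theorem subsingleton_tor_of_pd_le_depth (M N : Type u) [AddCommGroup M] [Module A M]
    [Module.Finite A M] [AddCommGroup N] [Module A N] [Module.Finite A N]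
    (e : ℕ) (hpd : PdLT A M (e + 1)) (hdepth : (e : ℕ∞) ≤ LocCoh.depth A N)
    (k : ℕ) (hk : ∀ (i : ℕ), 0 < i → ∀ (x : DRing.Tor A i M N) (r : A), r ∈ maximalIdeal A →
      r ^ k • x = 0) :
    ∀ i : ℕ, 0 < i → Subsingleton (DRing.Tor A i M N) := by
  classical
  obtain ⟨P, hPzero, hPfin⟩ := Groth.Agent.H72.FGRes.exists_fg_resolution e M hpd
  set C : ChainComplex (ModuleCat.{u} A) ℕ :=
    ((tensorRight (ModuleCat.of A N)).mapHomologicalComplex (ComplexShape.down ℕ)).obj P.complex
    with hC
  have hiso : ∀ i, Nonempty (((Tor (ModuleCat.{u} A) i).obj (ModuleCat.of A M)).obj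
      (ModuleCat.of A N) ≅ C.homology i) :=
    fun i => Groth.Agent.H82.TorLib.nonempty_tor_iso_U P i (ModuleCat.of A N)
  have hzero : ∀ j, e < j → Limits.IsZero (C.X j) := fun j hj =>
    (tensorRight (ModuleCat.of A N)).map_isZero (hPzero j hj)
  have hfin : ∀ j, Module.Finite A (C.X j) := fun j => by
    haveI := hPfin j
    show Module.Finite A (TensorProduct A (P.complex.X j) N)
    infer_instance
  have hdepthC : ∀ j, j ≤ e → (j : ℕ∞) ≤ LocCoh.depth A (C.X j) := fun j hj => by
    haveI := hPfin j
    haveI : Module.Projective A (P.complex.X j) :=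
      (IsProjective.iff_projective _).2 (P.projective j)
    show (j : ℕ∞) ≤ LocCoh.depth A (TensorProduct A (P.complex.X j) N)
    exact le_depth_tensor_of_projective _ N _ ((Nat.cast_le.2 hj).trans hdepth)
  by_contra hcon
  push Not at hcon
  obtain ⟨i₁, hi₁pos, hi₁⟩ := hcon
  have hne : ∀ i, ¬ Subsingleton (DRing.Tor A i M N) → ¬ C.ExactAt i := by
    intro i hi hex
    apply hi
    obtain ⟨φ⟩ := hiso i
    rw [HomologicalComplex.exactAt_iff_isZero_homology] at hex
    haveI := ModuleCat.subsingleton_of_isZero hex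
    exact φ.toLinearEquiv.toEquiv.subsingleton
  let p : ℕ → Prop := fun i => 0 < i ∧ ¬ C.ExactAt i
  have hp₁ : p i₁ := ⟨hi₁pos, hne i₁ (not_subsingleton_iff_nontrivial.2 hi₁)⟩
  have hbound : ∀ i, p i → i ≤ e := by
    intro i hi
    by_contra h
    exact hi.2 (ShortComplex.exact_of_isZero_X₂ _ (hzero i (not_le.1 h)))
  have hp₀ : p (Nat.findGreatest p e) := Nat.findGreatest_spec (hbound i₁ hp₁) hp₁
  have habove : ∀ j, Nat.findGreatest p e < j → C.ExactAt j := by
    intro j hj
    by_contra hnj
    have hpj : p j := ⟨lt_of_le_of_lt (Nat.zero_le _) hj, hnj⟩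
    exact absurd (Nat.le_findGreatest (hbound j hpj) hpj) (not_le.2 hj)
  have h1 := Groth.Agent.S2064.result C e hzero hfin hdepthC (Nat.findGreatest p e) hp₀.1 hp₀.2
    habove
  haveI : Module.Finite A (C.homology (Nat.findGreatest p e)) := finite_homology C hfin _
  haveI : Nontrivial (C.homology (Nat.findGreatest p e)) := by
    rw [← not_subsingleton_iff_nontrivial]
    intro hs
    apply hp₀.2
    rw [HomologicalComplex.exactAt_iff_isZero_homology]
    exact ModuleCat.isZero_of_subsingleton _
  have h0 : LocCoh.depth A (C.homology (Nat.findGreatest p e)) = 0 := by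
    rw [Groth.Agent.H29.depth_eq_zero_iff]
    refine ⟨Groth.Agent.H29.maximalIdeal_smul_top_ne_top A _, fun r hr hreg => ?_⟩
    obtain ⟨φ⟩ := hiso (Nat.findGreatest p e)
    obtain ⟨x, hx⟩ := exists_ne (0 : C.homology (Nat.findGreatest p e))
    apply hx
    have h2 : r ^ k • x = 0 := by
      have h3 := hk _ hp₀.1 (φ.toLinearEquiv.symm x) r hr
      have h4 : φ.toLinearEquiv (r ^ k • φ.toLinearEquiv.symm x) = 0 := by rw [h3, map_zero]
      rwa [map_smul, LinearEquiv.apply_symm_apply] at h4
    exact (hreg.pow k) (by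
      show r ^ k • x = r ^ k • (0 : C.homology (Nat.findGreatest p e))
      rw [h2, smul_zero])
  rw [h0] at h1
  exact absurd h1 (by simp)


section Ann

variable {B : Type u} [CommRing B]

theorem smul_tensor_eq_zero (P N : Type u) [AddCommGroup P] [Module B P] [AddCommGroup N]
    [Module B N] (a : B) (ha : ∀ n : N, a • n = 0) (w : TensorProduct B P N) : a • w = 0 := by
  induction w using TensorProduct.induction_on with
  | zero => simp
  | tmul p n => rw [← TensorProduct.tmul_smul, ha, TensorProduct.tmul_zero]
  | add x y hx hy => rw [smul_add, hx, hy, add_zero]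

/-- `Tor_i(M, N)` is killed by the annihilator of `N`. -/
theorem smul_tor_eq_zero_right (M N : Type u) [AddCommGroup M] [Module B M] [AddCommGroup N]
    [Module B N] (a : B) (ha : ∀ n : N, a • n = 0) (i : ℕ) (x : DRing.Tor B i M N) :
    a • x = 0 := by
  let P := projectiveResolution (ModuleCat.of B M)
  obtain ⟨φ⟩ := Groth.Agent.H82.TorLib.nonempty_tor_iso_U P i (ModuleCat.of B N)
  suffices h : ∀ y : ((((tensorRight (ModuleCat.of B N)).mapHomologicalComplex
      (ComplexShape.down ℕ)).obj P.complex).homology i), a • y = 0 by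
    have h1 := h (φ.toLinearEquiv x)
    have h2 : φ.toLinearEquiv (a • x) = 0 := (φ.toLinearEquiv.map_smul a x).trans h1
    exact φ.toLinearEquiv.injective (h2.trans (map_zero _).symm)
  intro y
  obtain ⟨z, rfl⟩ := (ModuleCat.epi_iff_surjective
    ((((tensorRight (ModuleCat.of B N)).mapHomologicalComplex
      (ComplexShape.down ℕ)).obj P.complex).homologyπ i)).1 inferInstance y
  rw [← map_smul]
  have hz : a • z = 0 := by
    apply (ModuleCat.mono_iff_injective
      ((((tensorRight (ModuleCat.of B N)).mapHomologicalComplex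
        (ComplexShape.down ℕ)).obj P.complex).iCycles i)).1 inferInstance
    rw [map_smul, map_zero]
    exact smul_tensor_eq_zero (P.complex.X i) N a ha _
  rw [hz, map_zero]

/-- `Tor_i(M, N)` is killed by the annihilator of `M`. -/
theorem smul_tor_eq_zero_left (M N : Type u) [AddCommGroup M] [Module B M] [AddCommGroup N]
    [Module B N] (a : B) (ha : ∀ m : M, a • m = 0) (i : ℕ) (x : DRing.Tor B i M N) :
    a • x = 0 := by
  obtain ⟨e⟩ := Groth.Agent.H82.TorSymm.nonempty_tor_iso_flip (A := B) i
  let e' : DRing.Tor B i M N ≃ₗ[B] DRing.Tor B i N M :=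
    ((e.app (ModuleCat.of B M)).app (ModuleCat.of B N)).toLinearEquiv
  have h1 := smul_tor_eq_zero_right N M a ha i (e' x)
  have h2 : e' (a • x) = 0 := (e'.map_smul a x).trans h1
  exact e'.injective (h2.trans (map_zero _).symm)

end Ann

end Groth.Agent.H17.IM
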